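import Groth.Agent.BlowAmp.Chart
import Groth.Agent.ResDesc.CartierFam
import Groth.Agent.BlowUpExist.Proper

/-!
The exceptional ideal of a blow-up is ample over every affine open of the base.
-/

set_option autoImplicit false
set_option backward.isDefEq.respectTransparency false

universe u

open CategoryTheory CategoryTheory.Limits AlgebraicGeometry TopologicalSpace Opposite
open Groth.Agent.QC (res resO res_res res_self res_smul resO_resO app_res)

noncomputable section

namespace Groth.Agent.BlowAmp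

variable {X X' : Scheme.{u}} {b : X' ⟶ X} {𝓘 : X.IdealSheafData}

theorem app_smul_ι (E : X.IdealSheafData) {D : X.Opens} (c : Γ(X, D)) (g : Γ(ClSub.idealMod E, D)) :
    (show Γ(X, D) from (ClSub.idealModι E).app D (c • g)) =
      c * (show Γ(X, D) from (ClSub.idealModι E).app D g) :=
  Scheme.Modules.Hom.app_smul (ClSub.idealModι E) c g

/-- The function of a generator of an ideal sheaf is a nonzerodivisor. -/
theorem mem_nonZeroDivisors_of_isGen (E : X.IdealSheafData) {D : X.Opens}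
    {g : Γ(ClSub.idealMod E, D)} (hg : TMul.IsGen g) {f : Γ(X, D)} (hf : f = (ClSub.idealModι E).app D g) :
    f ∈ nonZeroDivisors Γ(X, D) := by
  rw [mem_nonZeroDivisors_iff_right]
  intro c hc
  refine (hg D le_rfl).1 (QC.app_injective_of_mono (ClSub.idealModι E) D ?_)
  simp only [res_self]
  exact ((app_smul_ι E c g).trans (hf ▸ hc)).trans
    ((app_smul_ι E (0 : Γ(X, D)) g).trans (zero_mul _)).symm

/-- A section of the centre over an affine open, as a section of the exceptional ideal. -/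
theorem exists_section (W : X.affineOpens) (a : 𝓘.ideal W) :
    ∃ t : Γ(ClSub.idealMod (𝓘.comap b), b ⁻¹ᵁ W.1),
      (ClSub.idealModι (𝓘.comap b)).app (b ⁻¹ᵁ W.1) t = b.app W.1 a.1 := by
  refine (QC.mem_range_kernel_app (ClSub.toSubscheme (𝓘.comap b)) _ _).mpr ?_
  refine QC.section_eq_of_locally fun y hy => ?_
  obtain ⟨V, hV, hyV, hVW⟩ := exists_isAffineOpen_mem_and_subset (x := y) (U := b ⁻¹ᵁ W.1) hy
  refine ⟨V, hVW, hyV, ?_⟩
  have hm : resO X' hVW (b.app W.1 a.1) ∈ (𝓘.comap b).ideal ⟨V, hV⟩ := by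
    rw [FpqcDescent.ideal_comap_appLE 𝓘 b W ⟨V, hV⟩ hVW]
    exact Ideal.mem_map_of_mem (b.appLE W.1 V hVW).hom a.2
  have h1 := (QC.mem_range_kernel_app (ClSub.toSubscheme (𝓘.comap b)) V _).mp
    ((QC.mem_range_idealModι_affine (𝓘.comap b) ⟨V, hV⟩ _).mpr hm)
  rw [app_res, map_zero]
  exact h1

theorem isAmple_restrict_exceptional (hb : BlowUp.IsBlowUp b 𝓘) (hI : BlowUp.IsFiniteTypeIdeal 𝓘)
    (W : X.affineOpens) :
    CohB1.IsAmple ((ClSub.idealMod (𝓘.comap b)).restrict (b ⁻¹ᵁ W.1).ι) := by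
  have hJ := (Groth.Agent.S8914.result (𝓘.comap b)).mpr hb.1
  have := BlowUpExist.isProper_of_isFiniteType hb hI
  refine ⟨TMul.isInvertible_restrict _ hJ,
    isCompact_iff_compactSpace.mp (b.isCompact_preimage W.2.isCompact), fun x => ?_⟩
  obtain ⟨G, hG, hcov, hGi, hGmax⟩ := exists_chartOpen hb W
  obtain ⟨a, hxa⟩ := hcov x.1 x.2
  obtain ⟨t, ht⟩ := exists_section (b := b) W a
  let U := b ⁻¹ᵁ W.1
  have hle : U.ι ''ᵁ ⊤ ≤ U := U.ι_image_le ⊤
  let L := (ClSub.idealMod (𝓘.comap b)).restrict U.ι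
  let s : Coh.structureModule (U : Scheme.{u}) ⟶ L :=
    TMul.homOf (L := L) (res (ClSub.idealMod (𝓘.comap b)) hle t)
  have hgen : ∀ O : (U : Scheme.{u}).Opens, TMul.IsGen (TMul.val s O) ↔
      TMul.IsGen (res (ClSub.idealMod (𝓘.comap b)) (U.ι_image_le O) t) := fun O => by
    rw [TMul.isGen_restrict_iff]
    refine iff_of_eq (congrArg TMul.IsGen ?_)
    rw [TMul.val_homOf]
    exact (congrArg (res (ClSub.idealMod (𝓘.comap b)) (U.ι.image_mono (le_top : O ≤ ⊤)))
      (res_res (ClSub.idealMod (𝓘.comap b)) (U.ι.image_mono (le_top : (⊤ : (U : Scheme.{u}).Opens) ≤ ⊤)) hle t)).trans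
      (res_res _ _ _ _)
  have hfun : ∀ (D : X'.Opens) (hD : D ≤ U),
      (ClSub.idealModι (𝓘.comap b)).app D (res (ClSub.idealMod (𝓘.comap b)) hD t) = b.appLE W.1 D hD a.1 :=
    fun D hD =>
      (app_res (ClSub.idealModι (𝓘.comap b)) hD t).symm.trans
        (congrArg (res (Coh.structureModule X') hD) ht)
  have hloc : CohB1.genLocus L s = U.ι ⁻¹ᵁ (G a).1 := by
    ext y
    constructor
    · intro hy
      obtain ⟨O, hyO, hO⟩ := (TMul.mem_genLocus_iff s).mp hy
      obtain ⟨D, hD, hyD, hDO⟩ := exists_isAffineOpen_mem_and_subset (x := U.ι y) (U := U.ι ''ᵁ O)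
        ⟨y, hyO, rfl⟩
      replace hDO : D ≤ U.ι ''ᵁ O := hDO
      have hg := ((hgen O).mp hO).res hDO
      rw [res_res] at hg
      have e := hfun D (hDO.trans (U.ι_image_le O))
      refine hGmax a ⟨D, hD⟩ (hDO.trans (U.ι_image_le O)) ?_ ?_ hyD
      · exact mem_nonZeroDivisors_of_isGen _ hg e.symm
      · exact ResDesc.ideal_eq_span_of_isGen _ hD hg e.symm
    · intro hy
      obtain ⟨O, g, hyO, hg⟩ := TMul.exists_isGen hJ (U.ι y)
      obtain ⟨D, hD, hyD, hDle⟩ := exists_isAffineOpen_mem_and_subset (x := U.ι y) (U := (G a).1 ⊓ O)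
        ⟨hy, hyO⟩
      replace hDle : D ≤ (G a).1 ⊓ O := hDle
      have hDU : D ≤ U := (hDle.trans inf_le_left).trans (hG a)
      obtain ⟨f, hf⟩ : ∃ f : Γ(X', D), f = (ClSub.idealModι (𝓘.comap b)).app D (res _ (hDle.trans inf_le_right) g) :=
        ⟨_, rfl⟩
      have hgD := hg.res (hDle.trans inf_le_right)
      have h1 := ResDesc.ideal_eq_span_of_isGen _ hD hgD hf
      have h2 : (𝓘.comap b).ideal ⟨D, hD⟩ = Ideal.span {b.appLE W.1 D hDU a.1} := by
        rw [FpqcDescent.ideal_comap_appLE 𝓘 b W ⟨D, hD⟩ hDU]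
        have h3 := hGi a
        rw [FpqcDescent.ideal_comap_appLE 𝓘 b W (G a) (hG a)] at h3
        have h4 := congrArg (Ideal.map (resO X' (hDle.trans inf_le_left))) h3
        rw [Ideal.map_map, Ideal.map_span, Set.image_singleton] at h4
        have hc : (resO X' (hDle.trans inf_le_left)).comp (b.appLE W.1 (G a).1 (hG a)).hom =
            (b.appLE W.1 D hDU).hom := RingHom.ext fun c =>
          congr($(Scheme.Hom.appLE_map b (hG a) (homOfLE (hDle.trans inf_le_left)).op) c)
        rw [hc] at h4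
        exact h4.trans (congrArg (fun r => Ideal.span {r}) (RingHom.congr_fun hc a.1))
      obtain ⟨d, hd⟩ := (hgD D le_rfl).2 (res _ hDU t)
      simp only [res_self] at hd
      have hd' : b.appLE W.1 D hDU a.1 = d * f := by
        rw [← hfun D hDU, ← hd, hf]
        exact app_smul_ι _ d _
      obtain ⟨e, he⟩ : ∃ e, e * b.appLE W.1 D hDU a.1 = f :=
        Ideal.mem_span_singleton'.mp (h2 ▸ h1 ▸ Ideal.mem_span_singleton_self f)
      have hu : IsUnit d := IsUnit.of_mul_eq_one_right e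
        ((mul_cancel_right_mem_nonZeroDivisors (mem_nonZeroDivisors_of_isGen _ hgD hf)).mp
          (by rw [one_mul, mul_assoc, ← hd', he]))
      refine (TMul.mem_genLocus_iff s).mpr ⟨U.ι ⁻¹ᵁ D, hyD, (hgen _).mpr ?_⟩
      have h5 := TMul.isGen_smul hgD hu
      rw [hd] at h5
      have h6 := h5.res (show U.ι ''ᵁ (U.ι ⁻¹ᵁ D) ≤ D from U.ι.image_preimage_le D)
      rwa [res_res] at h6
  refine ⟨0, s ≫ (TMul.leftUnitIso L).inv, ?_, ?_⟩
  · exact (TMul.genLocus_comp s (TMul.leftUnitIso L).inv).ge (hloc.ge hxa)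
  · refine (congrArg IsAffineOpen ((TMul.genLocus_comp s (TMul.leftUnitIso L).inv).trans hloc)).mpr ?_
    exact (G a).2.preimage_of_isOpenImmersion U.ι (by rw [U.opensRange_ι]; exact hG a)

end Groth.Agent.BlowAmp
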