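import Groth.Agent.BlowUpExist.Affine
import Groth.Agent.BlowUpLib.Basic
import Groth.Agent.BlowExc.Smooth
import Groth.Agent.QC.OmegaAffineSect

/-!
Charts of a blow-up over an affine open of the base: for a section `a` of the centre, the locus where
`a` generates the exceptional ideal is affine.
-/

set_option autoImplicit false
set_option backward.isDefEq.respectTransparency false
set_option linter.style.haveILetI false

universe u

open CategoryTheory CategoryTheory.Limits AlgebraicGeometry TopologicalSpace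

namespace Groth.Agent.BlowAmp

open Groth.Agent.BlowUpExist

variable {X X' : Scheme.{u}} {b : X' ⟶ X} {𝓘 : X.IdealSheafData}

/-- The blow-up over an affine open is the blow-up of the Rees algebra. -/
theorem exists_model (hb : BlowUp.IsBlowUp b 𝓘) (W : X.affineOpens) :
    ∃ m : Proj (Rees.deg (reesAlgebra (𝓘.ideal W))) ⟶ X', IsOpenImmersion m ∧
      Set.range m = (b ⁻¹ᵁ W.1 : Set X') ∧ m ≫ b = structMap (𝓘.ideal W) ≫ W.2.fromSpec := by
  let A := Γ(X, W.1)
  let I := 𝓘.ideal W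
  have hJ : 𝓘.comap W.2.fromSpec = sheafOf I := by
    refine (Scheme.IdealSheafData.equivOfIsAffine (X := Spec A)).injective ?_
    refine Eq.trans ?_ ((Scheme.IdealSheafData.equivOfIsAffine (X := Spec A)).apply_symm_apply _).symm
    exact ideal_comap_fromSpec 𝓘 W
  have h1 := BlowUpLib.isBlowUp_flat W.2.fromSpec hb
  rw [hJ] at h1
  have h0 := isBlowUp_affine I
  obtain ⟨k, hk, -⟩ := h1.2 _ (structMap I) h0.1
  obtain ⟨l, hl, -⟩ := h0.2 _ (pullback.fst W.2.fromSpec b) h1.1
  have e1 : k ≫ l = 𝟙 _ :=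
    (h0.2 _ _ h0.1).unique (by rw [Category.assoc, hl, hk]) (Category.id_comp _)
  have e2 : l ≫ k = 𝟙 _ :=
    (h1.2 _ _ h1.1).unique (by rw [Category.assoc, hk, hl]) (Category.id_comp _)
  haveI : IsIso k := ⟨l, e1, e2⟩
  refine ⟨k ≫ pullback.snd _ _, inferInstance, ?_, ?_⟩
  · rw [← Scheme.Hom.coe_opensRange, Scheme.Hom.opensRange_comp_of_isIso, Scheme.Hom.coe_opensRange,
      IsOpenImmersion.range_pullbackSnd, W.2.opensRange_fromSpec]
  · rw [Category.assoc, ← pullback.condition, reassoc_of% hk]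

/-- The exceptional ideal on the image of a chart. -/
theorem ideal_opensRange (W : X.affineOpens) {R : Type u} [CommRing R]
    (j : Spec (CommRingCat.of R) ⟶ X') [IsOpenImmersion j] (φ : Γ(X, W.1) →+* R)
    (hj : j ≫ b = Spec.map (CommRingCat.ofHom φ) ≫ W.2.fromSpec) (a : Γ(X, W.1))
    (ha : (𝓘.ideal W).map φ = Ideal.span {φ a}) (hG : j.opensRange ≤ b ⁻¹ᵁ W.1) :
    (𝓘.comap b).ideal ⟨j.opensRange, isAffineOpen_opensRange j⟩ =
      Ideal.span {b.appLE W.1 j.opensRange hG a} := by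
  have htop : (⊤ : (Spec _).Opens) ≤ j ⁻¹ᵁ j.opensRange := fun z _ => ⟨z, rfl⟩
  let θ := j.appLE j.opensRange ⊤ htop ≫ (Scheme.ΓSpecIso _).hom
  have hθ : Function.Bijective θ.hom := by
    haveI : IsIso (j.appLE j.opensRange ⊤ htop) := by
      have := Scheme.Hom.isIso_app j j.opensRange le_rfl
      have h : (⊤ : (Spec (CommRingCat.of R)).Opens) = j ⁻¹ᵁ j.opensRange :=
        (top_le_iff.mp htop).symm
      rw [Scheme.Hom.appLE]
      have : IsIso ((Spec (CommRingCat.of R)).presheaf.map (homOfLE htop).op) := by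
        have : IsIso (homOfLE htop) := ⟨homOfLE h.ge, Subsingleton.elim _ _, Subsingleton.elim _ _⟩
        infer_instance
      infer_instance
    exact ConcreteCategory.bijective_of_isIso θ
  have key : ∀ c : Γ(X, W.1), θ (b.appLE W.1 j.opensRange hG c) = φ c := fun c => by
    have e1 := congr($(Scheme.Hom.appLE_comp_appLE j b W.1 j.opensRange ⊤ hG htop) c)
    have e2 := QC.appLE_specMap_comp W.2.fromSpec (CommRingCat.ofHom φ) W.1
      (by rw [W.2.fromSpec_preimage_self]) _ hj (fun z _ => hG (htop (Set.mem_univ z))) c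
    refine (congrArg (Scheme.ΓSpecIso (CommRingCat.of R)).hom e1).trans (e2.trans ?_)
    refine congrArg φ ?_
    rw [Scheme.Hom.appLE, W.2.fromSpec_app_self]
    simp only [Category.assoc, ← Functor.map_comp, CommRingCat.comp_apply]
    simp
  rw [FpqcDescent.ideal_comap_appLE 𝓘 b W ⟨_, isAffineOpen_opensRange _⟩ hG]
  refine FpqcDescent.map_injective_of_bijective hθ ?_
  rw [Ideal.map_map, Ideal.map_span, Set.image_singleton, key,
    show θ.hom.comp (b.appLE W.1 j.opensRange hG).hom = φ from RingHom.ext key]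
  exact ha

/-- The chart of a section `a` of the centre over an affine open. -/
theorem exists_chartOpen (hb : BlowUp.IsBlowUp b 𝓘) (W : X.affineOpens) :
    ∃ G : 𝓘.ideal W → X'.affineOpens, ∃ hG : ∀ a, (G a).1 ≤ b ⁻¹ᵁ W.1,
      (∀ x ∈ b ⁻¹ᵁ W.1, ∃ a, x ∈ (G a).1) ∧
      (∀ a, (𝓘.comap b).ideal (G a) = Ideal.span {b.appLE W.1 (G a).1 (hG a) a.1}) ∧
      ∀ (a : 𝓘.ideal W) (V : X'.affineOpens) (hV : V.1 ≤ b ⁻¹ᵁ W.1),
        b.appLE W.1 V.1 hV a.1 ∈ nonZeroDivisors Γ(X', V.1) →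
        (𝓘.comap b).ideal V = Ideal.span {b.appLE W.1 V.1 hV a.1} → V.1 ≤ (G a).1 := by
  obtain ⟨m, hm, hmr, hmb⟩ := exists_model hb W
  let A := Γ(X, W.1)
  let I := 𝓘.ideal W
  let j := fun a : I => chart I a.1 a.2 ≫ m
  refine ⟨fun a => ⟨(j a).opensRange, isAffineOpen_opensRange _⟩, fun a => ?_, fun x hx => ?_, fun a => ?_,
    fun a V hV hnzd hgen => ?_⟩
  · rintro _ ⟨z, rfl⟩
    exact hmr.subset ⟨chart I a.1 a.2 z, (Scheme.Hom.comp_apply _ _ _).symm⟩
  · obtain ⟨p, rfl⟩ : x ∈ Set.range m := hmr.symm.subset hx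
    obtain ⟨a, ha, z, hz⟩ := exists_chart I p
    exact ⟨⟨a, ha⟩, z, by rw [Scheme.Hom.comp_apply, hz]⟩
  · exact ideal_opensRange W (j a) (fromA I a.1 a.2)
      (by rw [Category.assoc, hmb, ← Category.assoc, chart_structMap]) _ (map_fromA_eq I a.1 a.2) _
  · rw [FpqcDescent.ideal_comap_appLE 𝓘 b W V hV] at hgen
    have hr : Set.range V.2.fromSpec ⊆ Set.range m := by
      rw [V.2.range_fromSpec, hmr]
      exact hV
    let k : Spec Γ(X', V.1) ⟶ _ := IsOpenImmersion.lift m V.2.fromSpec hr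
    have hk : k ≫ m = V.2.fromSpec := IsOpenImmersion.lift_fac _ _ _
    haveI : IsOpenImmersion k := by
      haveI : IsOpenImmersion (k ≫ m) := hk ▸ inferInstance
      exact .of_comp k m
    have hc : k ≫ structMap I = Spec.map (b.appLE W.1 V.1 hV) := by
      rw [← cancel_mono W.2.fromSpec, Category.assoc, ← hmb, reassoc_of% hk,
        W.2.SpecMap_appLE_fromSpec b V.2 hV]
    let c : GoodChart I (structMap I) :=
      ⟨Γ(X', V.1), k, (b.appLE W.1 V.1 hV).hom, a.1, a.2, hc, hnzd, hgen⟩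
    intro x hx
    obtain ⟨z, rfl⟩ : x ∈ Set.range V.2.fromSpec := V.2.range_fromSpec.symm ▸ hx
    obtain ⟨w, hw⟩ := range_le_chart I c k rfl z
    exact ⟨w, by rw [Scheme.Hom.comp_apply, hw, ← Scheme.Hom.comp_apply, hk]⟩

end Groth.Agent.BlowAmp
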