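import Groth.Agent.BlowUpLib.Cartier
import Groth.Agent.BlowUpLib.Basic
import Mathlib

/-!
The reduced ideal of finitely many closed points is the product of the ideals of the points.
-/

set_option autoImplicit false
set_option backward.isDefEq.respectTransparency false

universe u

open CategoryTheory CategoryTheory.Limits AlgebraicGeometry TopologicalSpace

noncomputable section

namespace Groth.Agent.BlowAmp

variable {X : Scheme.{u}}

/-- Ideal sheaves with disjoint supports multiply to their intersection. -/
theorem inf_eq_mul_of_disjoint {I J : X.IdealSheafData} (h : I.support ⊓ J.support = ⊥) : I ⊓ J = I * J := by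
  have h1 : I ⊔ J = ⊤ := (Scheme.IdealSheafData.support_eq_bot_iff _).1 ((Scheme.IdealSheafData.support_sup I J).trans h)
  refine Scheme.IdealSheafData.ext (funext fun U => ?_)
  have h2 : I.ideal U ⊔ J.ideal U = ⊤ := congrFun (congrArg Scheme.IdealSheafData.ideal h1) U
  exact (Ideal.mul_eq_inf_of_coprime h2).symm

theorem vanishingIdeal_points {ι : Type*} (P : ι → X) (hP : Function.Injective P)
    (hPc : ∀ i, IsClosed ({P i} : Set X)) (T : Finset ι) :
    Scheme.IdealSheafData.vanishingIdeal (T.sup fun i => (⟨{P i}, hPc i⟩ : Closeds X)) =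
      ∏ i ∈ T, Scheme.IdealSheafData.vanishingIdeal ⟨{P i}, hPc i⟩ := by
  classical
  induction T using Finset.induction with
  | empty => simp
  | insert i T hi ih =>
    rw [Finset.sup_insert, Scheme.IdealSheafData.vanishingIdeal_sup, Finset.prod_insert hi, ← ih]
    refine inf_eq_mul_of_disjoint (Closeds.ext ?_)
    rw [Closeds.coe_inf, Scheme.IdealSheafData.coe_support_vanishingIdeal,
      Scheme.IdealSheafData.coe_support_vanishingIdeal, Closeds.coe_bot, Closeds.coe_finset_sup]
    ext x
    simp only [Set.mem_inter_iff, Set.mem_empty_iff_false, iff_false, not_and, Closeds.coe_mk, Set.mem_singleton_iff]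
    rintro rfl h
    obtain ⟨j, hj, hjx⟩ : ∃ j ∈ T, P i ∈ ({P j} : Set X) := by simpa [Finset.sup_eq_iSup] using h
    exact hi (hP (Set.mem_singleton_iff.1 hjx) ▸ hj)

theorem vanishingIdeal_range {ι : Type*} [Fintype ι] (P : ι → X) (hP : Function.Injective P)
    (hPc : ∀ i, IsClosed ({P i} : Set X)) (hZ : IsClosed (Set.range P)) :
    Scheme.IdealSheafData.vanishingIdeal ⟨Set.range P, hZ⟩ =
      ∏ i, Scheme.IdealSheafData.vanishingIdeal ⟨{P i}, hPc i⟩ := by
  rw [← vanishingIdeal_points P hP hPc Finset.univ]
  congr 1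
  refine Closeds.ext ?_
  rw [Closeds.coe_finset_sup]
  ext x
  simp [Finset.sup_eq_iSup, eq_comm]

theorem comap_finset_prod {Y : Scheme.{u}} {ι : Type*} (g : Y ⟶ X) (I : ι → X.IdealSheafData) (T : Finset ι) :
    (∏ i ∈ T, I i).comap g = ∏ i ∈ T, (I i).comap g := by
  classical
  induction T using Finset.induction with
  | empty => simp
  | insert i T hi ih => rw [Finset.prod_insert hi, Finset.prod_insert hi, BlowUpLib.comap_mul, ih]

theorem cartier_factor {ι : Type*} (I : ι → X.IdealSheafData) (T : Finset ι)
    (h : BlowUp.IsEffCartierIdeal (∏ i ∈ T, I i)) {i : ι} (hi : i ∈ T) : BlowUp.IsEffCartierIdeal (I i) := by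
  classical
  rw [← Finset.mul_prod_erase T I hi] at h
  exact BlowUpLib.cartier_of_mul_left h

end Groth.Agent.BlowAmp
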