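import Groth.Agent.BlowAmp.ProjPoints
import Groth.Agent.BlowAmp.Points
import Groth.Agent.ResolveCurve.Embedded
import Groth.Agent.TMul.AmpleComp
import Groth.Agent.Intersect.Hyper
import Groth.Agent.Nakai.CartierMul
import Groth.Agent.Nakai.ClMul
import Groth.Agent.GGDesc.Basic
import Groth.Agent.S1664
import Groth.Agent.RatBlow.Sections
import Mathlib

/-!
Ample classes on the blow-up of a projective scheme in finitely many closed points.
-/

set_option autoImplicit false
set_option linter.style.haveILetI false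
set_option backward.isDefEq.respectTransparency false

universe u

open CategoryTheory CategoryTheory.Limits AlgebraicGeometry TopologicalSpace

attribute [local instance] Groth.Agent.Nakai.clMonoid

noncomputable section

namespace Groth.Agent.BlowAmp

variable {X Y : Scheme.{u}}

/-- Ample tensor globally generated is ample. -/
theorem isAmple_tensor_gg {A G : X.Modules} (hA : CohB1.IsAmple A) (hGi : PicF.IsInvertible G)
    (hG : Curv2.IsGloballyGenerated G) : CohB1.IsAmple (CohB1.tensorMod A G) := by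
  refine TMul.isAmple_tensorMod hA hGi fun x => ?_
  obtain ⟨s, hs⟩ := Groth.Agent.S1664.gen_of_globallyGenerated hGi hG x
  let e : CohB1.tensorPow G (0 + 1) ≅ G := TMul.leftUnitIso G
  exact ⟨0, s ≫ e.inv, by rw [TMul.genLocus_comp]; exact hs⟩

theorem cl_list : ∀ l : List X.Modules, PicF.cl (FGA.tensorList l) = (l.map PicF.cl).prod
  | [] => rfl
  | M :: l => by rw [FGA.tensorList, Nakai.cl_tensor, cl_list l, List.map_cons, List.prod_cons]

theorem isInvertible_list : ∀ l : List X.Modules, (∀ M ∈ l, PicF.IsInvertible M) → PicF.IsInvertible (FGA.tensorList l)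
  | [], _ => TMul.isInvertible_structureModule
  | M :: l, h => TMul.isInvertible_tensorMod (h M List.mem_cons_self) (isInvertible_list l fun N hN => h N (List.mem_cons_of_mem _ hN))

/-- A Picard class with an ample representative. -/
def Amp (c : PicF.Cl X) : Prop := ∃ A : X.Modules, PicF.cl A = c ∧ CohB1.IsAmple A

theorem amp_mul {c : PicF.Cl X} (hc : Amp c) {G : X.Modules} (hGi : PicF.IsInvertible G)
    (hG : Curv2.IsGloballyGenerated G) : ∀ m : ℕ, Amp (c * PicF.cl G ^ m)
  | 0 => by rwa [pow_zero, mul_one]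
  | m + 1 => by
    obtain ⟨A, hA, hA'⟩ := amp_mul hc hGi hG m
    exact ⟨_, by rw [Nakai.cl_tensor, hA, pow_succ, mul_assoc], isAmple_tensor_gg hA' hGi hG⟩

theorem amp_mul_prod {ι : Type*} {c : PicF.Cl X} (hc : Amp c) (G : ι → X.Modules)
    (hGi : ∀ i, PicF.IsInvertible (G i)) (hG : ∀ i, Curv2.IsGloballyGenerated (G i)) (m : ι → ℕ)
    (T : Finset ι) : Amp (c * ∏ i ∈ T, PicF.cl (G i) ^ m i) := by
  classical
  induction T using Finset.induction with
  | empty => rwa [Finset.prod_empty, mul_one]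
  | insert i T hi ih =>
    rw [Finset.prod_insert hi, mul_comm (_ ^ _) _, ← mul_assoc]
    exact amp_mul ih (hGi i) (hG i) (m i)

theorem isEffCartierIdeal_prod {ι : Type*} (I : ι → X.IdealSheafData)
    (hI : ∀ i, BlowUp.IsEffCartierIdeal (I i)) (T : Finset ι) :
    BlowUp.IsEffCartierIdeal (∏ i ∈ T, I i) ∧
      PicF.cl (ClSub.idealMod (∏ i ∈ T, I i)) = ∏ i ∈ T, PicF.cl (ClSub.idealMod (I i)) := by
  classical
  induction T using Finset.induction with
  | empty => exact ⟨Groth.Agent.BlowUpLib.cartier_top, (PicGrp.cl_eq_cl_iff _ _).2 Groth.Agent.RatBlow.nonempty_idealMod_top⟩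
  | insert i T hi ih =>
    rw [Finset.prod_insert hi, Finset.prod_insert hi]
    refine ⟨Groth.Agent.BlowUpLib.cartier_mul (hI i) ih.1, ?_⟩
    rw [← ih.2, ← Nakai.cl_tensor]
    exact ((PicGrp.cl_eq_cl_iff _ _).2 (Groth.Agent.Nakai.nonempty_idealMod_mul (hI i) ih.1)).symm

theorem exponent_eq {t N M : ℕ} {ι : Type*} [Fintype ι] (a : ι → ℕ) (ht : 0 < t) (ha : ∀ i, 0 < a i)
    (hM : M + ∑ i, (t * a i - 1) ≤ N * t) {G : Type*} [CommMonoid G] (h : G) (e : ι → G) :
    (∏ i, e i) * h ^ M * (∏ i, (e i * h) ^ (t * a i - 1)) * h ^ (N * t - (M + ∑ i, (t * a i - 1))) =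
      (h ^ N * ∏ i, e i ^ a i) ^ t := by
  have h1 : ∀ i, e i * e i ^ (t * a i - 1) = e i ^ (t * a i) := fun i => by
    rw [← pow_succ', Nat.sub_add_cancel (Nat.mul_pos ht (ha i))]
  simp only [mul_pow, Finset.prod_mul_distrib, Finset.prod_pow_eq_pow_sum, ← Finset.prod_pow, ← pow_mul]
  rw [show ∏ i, e i ^ (a i * t) = (∏ i, e i) * ∏ i, e i ^ (t * a i - 1) by
    rw [← Finset.prod_mul_distrib]; simp only [h1, mul_comm]]
  calc _ = (∏ i, e i) * (∏ i, e i ^ (t * a i - 1)) *
        h ^ (M + ∑ i, (t * a i - 1) + (N * t - (M + ∑ i, (t * a i - 1)))) := by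
        rw [pow_add, pow_add]; ac_rfl
    _ = _ := by rw [Nat.add_sub_cancel' hM]; ac_rfl

variable {k : Type u} [Field k] [IsAlgClosed k] {n : ℕ} [IsLocallyNoetherian X] [CompactSpace X]

/-- On the blow-up of a projective scheme at closed points, `N H - ∑ aᵢ Eᵢ` is ample for `0 < aᵢ`, `∑ aᵢ < N`. -/
theorem isAmple_blowUp (ι : X ⟶ CohB1.ProjSpace n k) [IsClosedImmersion ι] {s : ℕ} (P : Fin s → X)
    (hP : Function.Injective P) (hPc : ∀ i, IsClosed ({P i} : Set X)) (hZ : IsClosed (Set.range P))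
    (σ : Y ⟶ X) (hσ : BlowUp.IsBlowUp σ (Scheme.IdealSheafData.vanishingIdeal ⟨Set.range P, hZ⟩))
    (N : ℕ) (a : Fin s → ℕ) (ha : ∀ i, 0 < a i) (hN : ∑ i, a i < N) :
    CohB1.IsAmple (CohB1.tensorMod
      ((Scheme.Modules.pullback σ).obj (CohB1.tensorPow ((Scheme.Modules.pullback ι).obj (Twist.twistProjSpace n k 1)) N))
      (FGA.tensorList (List.ofFn fun i : Fin s =>
        ClSub.idealMod ((Scheme.IdealSheafData.vanishingIdeal ⟨{P i}, hPc i⟩).comap σ ^ a i)))) := by
  classical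
  have hfin : BlowUp.IsFiniteTypeIdeal (Scheme.IdealSheafData.vanishingIdeal ⟨Set.range P, hZ⟩) := fun U => by
    haveI := IsLocallyNoetherian.component_noetherian U
    exact IsNoetherian.noetherian _
  haveI := BlowUpExist.isProper_of_isFiniteType hσ hfin
  haveI : CompactSpace Y := QuasiCompact.compactSpace_of_compactSpace σ
  let K := (Scheme.Modules.pullback ι).obj (Twist.twistProjSpace n k 1)
  have hK : CohB1.IsAmple K :=
    TMul.isAmple_pullback_of_isAffineHom ι (Groth.Agent.Intersect.isAmple_twistProj_one n k)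
  let f := σ ≫ ι
  let H := (Scheme.Modules.pullback f).obj (Twist.twistProjSpace n k 1)
  have hH : PicF.IsInvertible H := ProjMor.isInvertible_pull1 (ProjMor.genDegOne_projSpace n k) f
  have hHg : Curv2.IsGloballyGenerated H := by
    refine Groth.Agent.S1551.isGloballyGenerated_of_gen fun x => ?_
    obtain ⟨l, hl⟩ := PicPn.exists_mem_ch (k := k) (f x)
    refine ⟨TMul.homOf (ProjMor.pull1 f (PicPn.X_mem (k := k) l)), (TMul.mem_genLocus_iff_isUnit _
      (ProjMor.isGen_pull1 (ProjMor.genDegOne_projSpace n k) f (PicPn.X_mem (k := k) l) (le_refl (f ⁻¹ᵁ PicPn.ch l)))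
      (c := 1) ?_ hl).2 ?_⟩
    · rw [TMul.val_homOf, one_smul]
    · rw [map_one]
      exact isUnit_one
  have hσK : ∀ m : ℕ, PicF.cl ((Scheme.Modules.pullback σ).obj (CohB1.tensorPow K m)) = PicF.cl H ^ m := fun m => by
    rw [← Nakai.cl_pow]
    refine (PicGrp.cl_eq_cl_iff _ _).2 ?_
    obtain ⟨e⟩ := TMul.nonempty_pullPowIso σ K m
    obtain ⟨e'⟩ := TMul.nonempty_powCongr ((Scheme.Modules.pullbackComp σ ι).app (Twist.twistProjSpace n k 1)) m
    exact ⟨(e.symm ≪≫ e' : _)⟩
  let E : Fin s → Y.IdealSheafData := fun i => (Scheme.IdealSheafData.vanishingIdeal ⟨{P i}, hPc i⟩).comap σ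
  have hprod : (Scheme.IdealSheafData.vanishingIdeal ⟨Set.range P, hZ⟩).comap σ = ∏ i, E i := by
    rw [vanishingIdeal_range P hP hPc hZ, comap_finset_prod]
  have hE : ∀ i, BlowUp.IsEffCartierIdeal (E i) := fun i =>
    cartier_factor E Finset.univ (hprod ▸ hσ.1) (Finset.mem_univ i)
  let G : Fin s → Y.Modules := fun i => CohB1.tensorMod (ClSub.idealMod (E i)) H
  have hGi : ∀ i, PicF.IsInvertible (G i) := fun i =>
    TMul.isInvertible_tensorMod ((Groth.Agent.S8914.result (E i)).mpr (hE i)) hH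
  have hG : ∀ i, Curv2.IsGloballyGenerated (G i) := fun i => by
    have hc : IsClosed ({ι (P i)} : Set (CohB1.ProjSpace n k)) := by
      rw [← Set.image_singleton]
      exact ι.isClosedEmbedding.isClosedMap _ (hPc i)
    have h1 : E i = (Scheme.IdealSheafData.vanishingIdeal ⟨{ι (P i)}, hc⟩).comap (σ ≫ ι) := by
      rw [Scheme.IdealSheafData.comap_comp, ResolveCurve.comap_vanishingIdeal_point ι (hPc i) hc]
    show Curv2.IsGloballyGenerated (CohB1.tensorMod (ClSub.idealMod (E i)) H)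
    rw [h1]
    exact isGloballyGenerated_point (σ ≫ ι) (ι (P i)) hc (h1 ▸ hE i)
  have hrel : RelAmple.IsRelAmple σ
      (ClSub.idealMod ((Scheme.IdealSheafData.vanishingIdeal ⟨Set.range P, hZ⟩).comap σ)) :=
    ⟨inferInstance, fun W => isAmple_restrict_exceptional hσ hfin W⟩
  obtain ⟨M, hM⟩ := TMul.exists_isAmple_tensor_pullback σ hrel hK
  have hB : Amp ((∏ i, PicF.cl (ClSub.idealMod (E i))) * PicF.cl H ^ M) := by
    refine ⟨_, ?_, hM M le_rfl⟩
    rw [Nakai.cl_tensor, hσK, hprod, (isEffCartierIdeal_prod E hE Finset.univ).2]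
  have hM' : M + ∑ i, ((M + 1) * a i - 1) ≤ N * (M + 1) := by
    have h1 : ∑ i, ((M + 1) * a i - 1) ≤ (M + 1) * ∑ i, a i :=
      (Finset.sum_le_sum fun i _ => Nat.sub_le _ _).trans_eq (Finset.mul_sum _ _ _).symm
    nlinarith
  obtain ⟨A, hA, hA'⟩ := amp_mul (amp_mul_prod hB G hGi hG (fun i => (M + 1) * a i - 1) Finset.univ) hH hHg
    (N * (M + 1) - (M + ∑ i, ((M + 1) * a i - 1)))
  have hEc : ∀ i m, BlowUp.IsEffCartierIdeal (E i ^ m) ∧
      PicF.cl (ClSub.idealMod (E i ^ m)) = PicF.cl (ClSub.idealMod (E i)) ^ m := fun i m => by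
    simpa using isEffCartierIdeal_prod (fun _ : Fin m => E i) (fun _ => hE i) Finset.univ
  refine TMul.isAmple_of_tensorPow ?_ (Nat.succ_pos M) (?_ : CohB1.IsAmple (CohB1.tensorPow _ (M + 1)))
  · refine TMul.isInvertible_tensorMod (PicLoc.isInvertible_pullback σ (TMul.isInvertible_tensorPow hK.1 N))
      (isInvertible_list _ fun L hL => ?_)
    obtain ⟨i, rfl⟩ := (List.mem_ofFn' _ _).1 hL
    exact (Groth.Agent.S8914.result _).mpr (hEc i (a i)).1
  · refine TMul.isAmple_congr (Nakai.iso_of_cl ?_).some hA'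
    rw [hA, Nakai.cl_pow, Nakai.cl_tensor, hσK, cl_list, List.map_ofFn, List.prod_ofFn]
    simp only [G, Nakai.cl_tensor]
    refine Eq.trans ?_ (congrArg (fun x => (PicF.cl H ^ N * x) ^ (M + 1))
      (Finset.prod_congr rfl fun i _ => (hEc i (a i)).2).symm)
    exact exponent_eq a (Nat.succ_pos M) ha hM' (PicF.cl H) fun i => PicF.cl (ClSub.idealMod (E i))

end Groth.Agent.BlowAmp
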