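import Groth.Agent.BlowAmp.Ample
import Groth.Agent.ProjSep.Main
import Groth.Agent.CohFinite.Tensor
import Groth.Agent.DQCoh.Serre
import Groth.Agent.S1551
import Groth.Agent.CurveRR.Curve
import Mathlib

/-!
Pull back of `O(1)` twisted by the inverse image of a point of projective space is globally generated.
-/

set_option autoImplicit false
set_option linter.style.haveILetI false
set_option backward.isDefEq.respectTransparency false

universe u

open CategoryTheory CategoryTheory.Limits AlgebraicGeometry TopologicalSpace Opposite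
open Groth.Agent.QC (res resO res_res res_smul)
open Groth.Agent.PicPn (P ch z X_mem)
open Groth.Agent.ProjSep (zl)
open TMul (IsGen)

noncomputable section

namespace Groth.Agent.BlowAmp

variable {k : Type u} [Field k] [IsAlgClosed k] {n : ℕ}

omit [IsAlgClosed k] in
theorem zl_mem_iff (l : Fin (n + 1)) (c : Fin (n + 1) → k) {w : P n k} (hw : w ∈ ch l) :
    zl l c ∈ ((PicPn.isAffineOpen_ch (k := k) l).primeIdealOf ⟨w, hw⟩).asIdeal ↔
      w ∉ Proj.basicOpen (CohB1.polyGrading n k) (ProjMor.linForms n k c) := by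
  rw [← not_iff_not, not_not, ← UfdExtend.mem_basicOpen_iff (PicPn.isAffineOpen_ch (k := k) l) hw]
  have h1 : zl l c = _ := GrT.deh_of_mem _ (X_mem l) (ProjMor.linForms_mem n k c)
  rw [h1, GrT.basicOpen_away _ (X_mem l) one_pos one_pos, Proj.basicOpen_mul]
  exact ⟨fun h => h.2, fun h => ⟨hw, h⟩⟩

/-- The ideal of a point on a chart is spanned by the linear forms vanishing there. -/
theorem point_ideal (p : P n k) (hp : IsClosed ({p} : Set (P n k))) (l : Fin (n + 1)) :
    (Scheme.IdealSheafData.vanishingIdeal ⟨{p}, hp⟩).ideal ⟨ch l, PicPn.isAffineOpen_ch l⟩ =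
      Ideal.span {v | ∃ c : Fin (n + 1) → k,
        p ∉ Proj.basicOpen (CohB1.polyGrading n k) (ProjMor.linForms n k c) ∧ zl l c = v} := by
  classical
  have hU := PicPn.isAffineOpen_ch (k := k) l
  rw [Scheme.IdealSheafData.vanishingIdeal_ideal]
  by_cases hpl : p ∈ ch l
  · let q := hU.primeIdealOf ⟨p, hpl⟩
    have hset : hU.fromSpec ⁻¹' ({p} : Set (P n k)) = {q} := by
      ext w
      simp only [Set.mem_preimage, Set.mem_singleton_iff]
      refine ⟨fun h => hU.fromSpec.isOpenEmbedding.injective (h.trans (hU.fromSpec_primeIdealOf ⟨p, hpl⟩).symm), ?_⟩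
      rintro rfl
      exact hU.fromSpec_primeIdealOf ⟨p, hpl⟩
    refine (congrArg PrimeSpectrum.vanishingIdeal hset).trans ((PrimeSpectrum.vanishingIdeal_singleton _).trans
      (le_antisymm ((ProjSep.prime_le_span hpl hp).trans (Ideal.span_mono ?_)) (Ideal.span_le.2 ?_)))
    · rintro v ⟨c, rfl, hc⟩
      exact ⟨c, (zl_mem_iff l c hpl).1 hc, rfl⟩
    · rintro v ⟨c, hc, rfl⟩
      exact (zl_mem_iff l c hpl).2 hc
  · have hset : hU.fromSpec ⁻¹' ({p} : Set (P n k)) = ∅ := Set.eq_empty_of_forall_notMem fun w hw => hpl (by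
      rw [← show hU.fromSpec w = p from hw]
      exact hU.range_fromSpec.le ⟨w, rfl⟩)
    refine (congrArg PrimeSpectrum.vanishingIdeal hset).trans ((PrimeSpectrum.vanishingIdeal_empty).trans ?_)
    refine (Eq.symm ?_)
    rw [Ideal.eq_top_iff_one]
    refine Ideal.subset_span ⟨Pi.single l 1, ?_, ?_⟩
    · rw [ProjMor.linForms_single]
      exact hpl
    · show GrT.deh _ _ _ = _
      rw [ProjMor.linForms_single, GrT.deh_self]

variable {X : Scheme.{u}} [CompactSpace X] (f : X ⟶ CohB1.ProjSpace n k)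

/-- `f^*O(1) ⊗ I` is globally generated, `I` the inverse image of the ideal of a point, if invertible. -/
theorem isGloballyGenerated_point (p : P n k) (hp : IsClosed ({p} : Set (P n k)))
    (hE : BlowUp.IsEffCartierIdeal ((Scheme.IdealSheafData.vanishingIdeal ⟨{p}, hp⟩).comap f)) :
    Curv2.IsGloballyGenerated (CohB1.tensorMod
      (ClSub.idealMod ((Scheme.IdealSheafData.vanishingIdeal ⟨{p}, hp⟩).comap f))
      ((Scheme.Modules.pullback f).obj (Twist.twistProjSpace n k 1))) := by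
  classical
  set 𝓘 := Scheme.IdealSheafData.vanishingIdeal (⟨{p}, hp⟩ : Closeds (P n k)) with h𝓘
  set E := 𝓘.comap f with hEdef
  let H := (Scheme.Modules.pullback f).obj (Twist.twistProjSpace n k 1)
  have hH : PicF.IsInvertible H := ProjMor.isInvertible_pull1 (ProjMor.genDegOne_projSpace n k) f
  have hJ : PicF.IsInvertible (ClSub.idealMod E) := (Groth.Agent.S8914.result E).mpr hE
  have hS := CohFinite.shortExact_tmap hH (CurveRR.ideal_shortExact E)
  let M := CohB1.tensorMod (ClSub.idealMod E) H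
  let ψ : M ⟶ CohB1.tensorMod (Coh.structureModule X) H := CohFinite.tmap (ClSub.idealModι E) H
  haveI : Mono ψ := hS.mono_f
  let one : ∀ V : X.Opens, Γ(Coh.structureModule X, V) := fun V => (1 : Γ(X, V))
  -- local data on the charts
  let g : ∀ l, Γ(H, f ⁻¹ᵁ ch (k := k) (n := n) l) := fun l =>
    res H le_top (ProjMor.pull1 f (X_mem (k := k) l))
  have hg : ∀ l, IsGen (g l) := fun l =>
    ProjMor.isGen_pull1 (ProjMor.genDegOne_projSpace n k) f (X_mem (k := k) l) (le_refl (f ⁻¹ᵁ ch (k := k) l))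
  let C : Set (Fin (n + 1) → k) := {c | p ∉ Proj.basicOpen (CohB1.polyGrading n k) (ProjMor.linForms n k c)}
  let φ : ∀ l : Fin (n + 1), (Fin (n + 1) → k) → Γ(X, f ⁻¹ᵁ ch (k := k) (n := n) l) := fun l c =>
    f.app (ch l) (zl l c)
  have hres : ∀ l c, res H le_top (ProjMor.pull1 f (ProjMor.linForms_mem n k c)) = φ l c • g l := fun l c => by
    refine (ProjMor.res_pull1 f (X_mem (k := k) l) (ProjMor.linForms_mem n k c) (le_refl (f ⁻¹ᵁ ch (k := k) l))).trans
      (congrArg (· • g l) ?_)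
    show (f.appLE (ch l) (f ⁻¹ᵁ ch l) le_rfl).hom (zl l c) = _
    rw [Scheme.Hom.appLE_eq_app]
  have hτ : ∀ l c, c ∈ C → ∃ τ : Γ(ClSub.idealMod E, f ⁻¹ᵁ ch (k := k) (n := n) l),
      (ClSub.idealModι E).app _ τ = φ l c := fun l c hc =>
    exists_section (b := f) ⟨ch l, PicPn.isAffineOpen_ch l⟩
      ⟨zl l c, (point_ideal p hp l).ge (Ideal.subset_span ⟨c, hc, rfl⟩)⟩
  choose τ hτ using hτ
  -- the global sections
  let S : (Fin (n + 1) → k) → Γ(CohB1.tensorMod (Coh.structureModule X) H, ⊤) := fun c =>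
    TMul.tm (one ⊤) (ProjMor.pull1 f (ProjMor.linForms_mem n k c))
  have hloc : ∀ l c (hc : c ∈ C), ψ.app _ (TMul.tm (τ l c hc) (g l)) =
      res (CohB1.tensorMod (Coh.structureModule X) H) le_top (S c) := fun l c hc => by
    refine (CohFinite.tmap_tm _ H _ _).trans ?_
    rw [hτ]
    show _ = res _ _ (TMul.tm _ _)
    have h1 : res (Coh.structureModule X) le_top (one ⊤) = one (f ⁻¹ᵁ ch (k := k) l) :=
      map_one (resO X (le_top : f ⁻¹ᵁ ch (k := k) l ≤ ⊤))
    rw [TMul.res_tm, hres, h1]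
    rw [TMul.tm_smul, ← TMul.smul_tm]
    refine congrArg (TMul.tm · (g l)) ?_
    show φ l c = φ l c * 1
    rw [mul_one]
  have hT : ∀ c ∈ C, ∃ t : Γ(M, ⊤), ψ.app ⊤ t = S c := fun c hc => by
    refine DQCoh.exists_app_eq hS ⊤ (S c) (Groth.Agent.QC.section_eq_of_locally fun y _ => ?_)
    obtain ⟨l, hl⟩ := PicPn.exists_mem_ch (k := k) (f y)
    refine ⟨f ⁻¹ᵁ ch l, le_top, hl, ?_⟩
    refine Eq.trans ?_ (map_zero _).symm
    refine (Groth.Agent.QC.app_res _ _ _).trans ?_
    refine Eq.trans (congrArg _ (hloc l c hc).symm) ?_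
    have hz : ψ ≫ CohFinite.tmap (ClSub.toSubscheme E) H = 0 := by
      rw [← CohFinite.tmap_comp, show ClSub.idealModι E ≫ ClSub.toSubscheme E = 0 from kernel.condition _,
        CohFinite.tmap_zero]
    exact congrArg (fun χ : M ⟶ _ => χ.app _ (TMul.tm (τ l c hc) (g l))) hz
  choose t ht using hT
  refine Groth.Agent.S1551.isGloballyGenerated_of_gen fun x => ?_
  obtain ⟨l, hl⟩ := PicPn.exists_mem_ch (k := k) (f x)
  obtain ⟨V₀, e, hxV₀, he⟩ := TMul.exists_isGen hJ x
  obtain ⟨V, hV, hxV, hVle⟩ := exists_isAffineOpen_mem_and_subset (x := x) (U := V₀ ⊓ f ⁻¹ᵁ ch l) ⟨hxV₀, hl⟩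
  have hVl : V ≤ f ⁻¹ᵁ ch (k := k) l := fun v hv => (hVle hv).2
  let e' := res (ClSub.idealMod E) (show V ≤ V₀ from fun v hv => (hVle hv).1) e
  have he' : IsGen e' := he.res _
  let ε : Γ(X, V) := (ClSub.idealModι E).app V e'
  choose r hr using fun c (hc : c ∈ C) => (he' V le_rfl).2 (res _ hVl (τ l c hc))
  have hφ : ∀ c (hc : c ∈ C), resO X hVl (φ l c) = r c hc * ε := fun c hc => by
    have h1 := congrArg ((ClSub.idealModι E).app V) (hr c hc)
    simp only [Groth.Agent.QC.res_self] at h1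
    refine Eq.trans ?_ (h1.symm.trans (app_smul_ι E (r c hc) e'))
    exact ((congrArg (resO X hVl) (hτ l c hc)).symm.trans
      (Groth.Agent.QC.app_res (ClSub.idealModι E) hVl (τ l c hc))).symm.symm
  have hmem : ε ∈ Ideal.span {v | ∃ c, ∃ hc : c ∈ C, r c hc * ε = v} := by
    have h1 : ε ∈ E.ideal ⟨V, hV⟩ := (QC.mem_range_idealModι_affine E ⟨V, hV⟩ ε).mp ⟨e', rfl⟩
    rw [hEdef, FpqcDescent.ideal_comap_appLE 𝓘 f ⟨ch l, PicPn.isAffineOpen_ch l⟩ ⟨V, hV⟩ hVl,
      point_ideal p hp l, Ideal.map_span] at h1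
    refine Ideal.span_mono ?_ h1
    rintro v ⟨_, ⟨c, hc, rfl⟩, rfl⟩
    refine ⟨c, hc, (hφ c hc).symm.trans ?_⟩
    rfl
  have htop : Ideal.span {v | ∃ c, ∃ hc : c ∈ C, r c hc = v} = ⊤ := by
    have h1 : ε ∈ Ideal.span {v | ∃ c, ∃ hc : c ∈ C, r c hc = v} * Ideal.span {ε} := by
      rw [Ideal.span_mul_span']
      refine Ideal.span_mono ?_ hmem
      rintro v ⟨c, hc, rfl⟩
      exact Set.mul_mem_mul ⟨c, hc, rfl⟩ rfl
    obtain ⟨a, ha, hae⟩ := Ideal.mem_mul_span_singleton.1 h1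
    have hz : (a - 1) * ε = 0 := by rw [sub_mul, hae, one_mul, sub_self]
    rw [(mem_nonZeroDivisors_iff_right.1 (mem_nonZeroDivisors_of_isGen E he' rfl)) _ hz |> sub_eq_zero.1] at ha
    exact (Ideal.eq_top_iff_one _).2 ha
  obtain ⟨c, hc, hu⟩ : ∃ c, ∃ hc : c ∈ C, IsUnit ((X.presheaf.germ V x hxV).hom (r c hc)) := by
    by_contra hno
    push Not at hno
    have hle : Ideal.span {v | ∃ c, ∃ hc : c ∈ C, r c hc = v} ≤
        (IsLocalRing.maximalIdeal (X.presheaf.stalk x)).comap (X.presheaf.germ V x hxV).hom :=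
      Ideal.span_le.2 fun v ⟨c, hc, hv⟩ => hv ▸ (IsLocalRing.mem_maximalIdeal _).2 (hno c hc)
    rw [htop] at hle
    have h1 := hle (Submodule.mem_top (x := (1 : Γ(X, V))))
    rw [Ideal.mem_comap, map_one] at h1
    exact (IsLocalRing.maximalIdeal.isMaximal _).ne_top ((Ideal.eq_top_iff_one _).2 h1)
  let D := X.basicOpen (r c hc)
  have hDV : D ≤ V := X.basicOpen_le _
  have hxD : x ∈ D := (Scheme.mem_basicOpen _ _ _ _).2 hu
  have hτD : res M (le_top : D ≤ ⊤) (t c hc) =
      TMul.tm (res _ (hDV.trans hVl) (τ l c hc)) (res H (hDV.trans hVl) (g l)) := by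
    refine Groth.Agent.QC.app_injective_of_mono ψ D ?_
    refine (Groth.Agent.QC.app_res ψ _ _).symm.trans ((congrArg _ (ht c hc)).trans ?_)
    refine (res_res _ (hDV.trans hVl) le_top _).symm.trans ((congrArg _ (hloc l c hc).symm).trans ?_)
    exact (Groth.Agent.QC.app_res ψ _ _).trans (congrArg _ (TMul.res_tm _ _ _))
  have h2 : res (ClSub.idealMod E) (hDV.trans hVl) (τ l c hc) = resO X hDV (r c hc) • res _ hDV e' := by
    refine (res_res _ hDV hVl _).symm.trans ?_
    refine (congrArg (res _ hDV) (hr c hc)).symm.trans ((congrArg (res _ hDV) ?_).trans (res_smul _ _ _ _))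
    simp only [Groth.Agent.QC.res_self]
  refine ⟨TMul.homOf (t c hc), (TMul.mem_genLocus_iff_isUnit _
    (TMul.isGen_tm (he'.res hDV) ((hg l).res (hDV.trans hVl))) (c := resO X hDV (r c hc)) ?_ hxD).2 ?_⟩
  · rw [TMul.val_homOf, hτD, h2, TMul.smul_tm]
  · exact ((X.toRingedSpace.isUnit_res_basicOpen (r c hc)).map (X.presheaf.germ D x hxD).hom)

end Groth.Agent.BlowAmp
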